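import Groth.Agent.EtPbc.GabberAffine
import Groth.Agent.EtPbc.Torsion
import Groth.Agent.HensPair.Colimit
import Groth.Agent.EtaleBase.Limit.EtaleSystem
import Mathlib.CategoryTheory.Presentable.Directed
import Mathlib.AlgebraicGeometry.AffineScheme

/-!
# Vanishing on closed subschemes of affine schemes

A torsion sheaf without higher cohomology on affine étale schemes over an affine scheme has no higher
cohomology on closed subschemes.
-/

set_option autoImplicit false
set_option backward.isDefEq.respectTransparency.types false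
set_option linter.style.haveILetI false

universe u

open CategoryTheory CategoryTheory.Limits CategoryTheory.Abelian AlgebraicGeometry Opposite

noncomputable section

namespace Groth.EtPbc.InjModule

open Groth.EtaleBase Groth.EtaleBase.EtLimit Groth.HensPair

attribute [local instance] pull_preservesFiniteLimits InjCoh.jCont

/-- Affine étale acyclicity. -/
def EtAcyc {X : Scheme.{u}} (F : EtCoh.Ab X) : Prop :=
  ∀ (W : Scheme.{u}) [IsAffine W] (g : W ⟶ X) [AlgebraicGeometry.Etale g] (q : ℕ),
    Subsingleton (EtCoh.H W ((EtCoh.pull g).obj F) (q + 1))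

/-- Transport of vanishing along an isomorphism of sheaves. -/
lemma subsingleton_H_of_iso {X : Scheme.{u}} {F G : EtCoh.Ab X} (e : F ≅ G) (q : ℕ)
    (h : Subsingleton (EtCoh.H X F q)) : Subsingleton (EtCoh.H X G q) :=
  @Function.Injective.subsingleton _ _ _ ((EtCoh.HF X q).mapIso e.symm).addCommGroupIsoToAddEquiv.injective h

/-- Affine étale acyclicity passes to étale schemes over the base. -/
lemma EtAcyc.pull {X Y : Scheme.{u}} {F : EtCoh.Ab X} (hF : EtAcyc F) (j : Y ⟶ X)
    [AlgebraicGeometry.Etale j] : EtAcyc ((EtCoh.pull j).obj F) := fun W _ g _ q =>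
  subsingleton_H_of_iso ((EtCore.pullComp g j).app F) (q + 1) (hF W (g ≫ j) q)

section System

variable {X : Scheme.{u}} {ι : Type u} [Preorder ι] (W : ιᵒᵖ ⥤ X.Etale)

/-- The members of the system of restrictions are the inverse images. -/
def resRestrictionIso (F : EtCoh.Ab X) (j : ι) :
    (EtCoh.pull (struct W j)).obj F ≅ (res (schemes W) j).obj ((restriction W).obj F) :=
  (pullRestrIso (struct W j)).app F ≪≫ (fullyFaithfulSheafToPresheaf _ _).preimageIso
    (X := (EtShriek.restrAlong (struct W j)).obj F)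
    (Y := (res (schemes W) j).obj ((restriction W).obj F))
    (Functor.isoWhiskerRight (NatIso.op (toBaseIncl W j)) F.obj)

variable [Nonempty ι] [IsDirectedOrder ι] [∀ j, IsAffine ((schemes W).obj (op j))]

/-- Affine étale acyclic sheaves are acyclic on limits of affine étale schemes. -/
theorem subsingleton_H_limit (c : Cone (schemes W)) (g : c.pt ⟶ X)
    (hg : ∀ j, proj (schemes W) c j ≫ struct W j = g) (hc : IsLimit c) {F : EtCoh.Ab X} (hF : EtAcyc F)
    (q : ℕ) : Subsingleton (EtCoh.H c.pt ((EtCoh.pull g).obj F) (q + 1)) := by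
  haveI : ∀ p, IsAffine ((schemes W).obj p) := fun p => inferInstanceAs (IsAffine ((schemes W).obj (op p.unop)))
  haveI : ∀ (p p' : ιᵒᵖ) (h : p ⟶ p'), IsAffineHom ((schemes W).map h) := fun p p' h => isAffineHom_of_isAffine _
  refine subsingleton_of_forall_eq 0 fun s => ?_
  let e := (pullIso W c g hg).app F
  obtain ⟨j, x, hx⟩ := (colimit_cohomology hc (q + 1) ((restriction W).obj F)).1
    (s.comp (Ext.mk₀ e.hom) (add_zero (q + 1)))
  haveI : Subsingleton (EtCoh.H ((schemes W).obj (op j))
      ((res (schemes W) j).obj ((restriction W).obj F)) (q + 1)) :=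
    subsingleton_H_of_iso (resRestrictionIso W F j) _ (hF _ (struct W j) q)
  rw [Subsingleton.elim x 0, map_zero] at hx
  calc s = (s.comp (Ext.mk₀ e.hom) (add_zero (q + 1))).comp (Ext.mk₀ e.inv) (add_zero (q + 1)) := by
          rw [Ext.comp_assoc_of_third_deg_zero, Ext.mk₀_comp_mk₀, e.hom_inv_id, Ext.comp_mk₀_id]
    _ = 0 := by rw [← hx, Ext.zero_comp]

end System

section Hens

variable {R : Type u} [CommRing R] (J : Ideal R)

/-- The structure morphism of the spectrum of a neighbourhood. -/
abbrev nbhdStruct (i : Idx J) : Spec (CommRingCat.of i.Obj) ⟶ Spec (CommRingCat.of R) :=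
  Spec.map (CommRingCat.ofHom (algebraMap R i.Obj))

instance etale_nbhdStruct (i : Idx J) : AlgebraicGeometry.Etale (nbhdStruct J i) := by
  exact HasRingHomProperty.Spec_iff.mpr (RingHom.etale_algebraMap.mpr i.isNbhd.etale)

/-- The étale neighbourhoods as étale schemes. -/
def nbhdSchemes : (Idx J)ᵒᵖ ⥤ (Spec (CommRingCat.of R)).Etale where
  obj i := MorphismProperty.Over.mk ⊤ (nbhdStruct J i.unop) (etale_nbhdStruct J i.unop)
  map {i k} f := MorphismProperty.Over.homMk ((diag J ⋙ Scheme.Spec.rightOp).map f.unop).unop (by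
    show Spec.map _ ≫ Spec.map _ = Spec.map _
    rw [← Spec.map_comp]
    exact congrArg Spec.map (CommRingCat.hom_ext (AlgHom.comp_algebraMap f.unop)))
  map_id i := MorphismProperty.Over.Hom.ext (Spec.map_id _)
  map_comp f f' := MorphismProperty.Over.Hom.ext
    (congrArg Quiver.Hom.unop ((diag J ⋙ Scheme.Spec.rightOp).map_comp f'.unop f.unop))

/-- The henselization has no higher cohomology for affine étale acyclic sheaves. -/
theorem subsingleton_H_Hz {F : EtCoh.Ab (Spec (CommRingCat.of R))} (hF : EtAcyc F) (q : ℕ) :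
    Subsingleton (EtCoh.H (Spec (CommRingCat.of (Hz J)))
      ((EtCoh.pull (Spec.map (CommRingCat.ofHom (algebraMap R (Hz J))))).obj F) (q + 1)) := by
  obtain ⟨ι, _, hd, _, G, _⟩ := IsFiltered.exists_directed.{u} (Idx J)
  haveI : IsDirectedOrder ι := ⟨fun a b => hd.directed a b⟩
  let W : ιᵒᵖ ⥤ (Spec (CommRingCat.of R)).Etale := G.op ⋙ nbhdSchemes J
  let hcol := (Functor.Final.isColimitWhiskerEquiv G (colimit.cocone (diag J))).symm (colimit.isColimit _)
  let c : Cone (schemes W) := Scheme.Spec.mapCone ((colimit.cocone (diag J)).whisker G).op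
  have hc : IsLimit c := isLimitOfPreserves Scheme.Spec hcol.op
  haveI : ∀ j, IsAffine ((schemes W).obj (op j)) := fun j =>
    inferInstanceAs (IsAffine (Spec (CommRingCat.of (G.obj j).Obj)))
  refine subsingleton_H_limit W c _ (fun j => ?_) hc hF q
  show Spec.map _ ≫ Spec.map _ = Spec.map _
  rw [← Spec.map_comp]
  exact congrArg Spec.map (CommRingCat.hom_ext (RingHom.ext fun r => ofRing_algebraMap J (G.obj j) r))

/-- Vanishing on the closed subscheme of an ideal. -/
theorem subsingleton_H_mk {F : EtCoh.Ab (Spec (CommRingCat.of R))} (hF : EtAcyc F)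
    (hT : EtCoh.IsTorsion F) (q : ℕ) :
    Subsingleton (EtCoh.H (Spec (CommRingCat.of (R ⧸ J)))
      ((EtCoh.pull (Spec.map (CommRingCat.ofHom (Ideal.Quotient.mk J)))).obj F) (q + 1)) := by
  let J' := J.map (algebraMap R (Hz J))
  haveI : HenselianRing (Hz J) J' := henselianRing J
  let i' := Spec.map (CommRingCat.ofHom (Ideal.Quotient.mk J'))
  let p := Spec.map (CommRingCat.ofHom (algebraMap R (Hz J)))
  haveI : IsClosedImmersion i' := IsClosedImmersion.spec_of_surjective _ Ideal.Quotient.mk_surjective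
  let G := (EtCoh.pull p).obj F
  have hGab := GabberAffine.bijective_unit i' (fun G => HensPairSections.bijective_un_affine J' G) (q + 1) G
    (Torsion.isTorsion_pull p hT)
  have h1 : Subsingleton (EtCoh.H _ ((EtCoh.pull i').obj G) (q + 1)) :=
    @Function.Surjective.subsingleton _ _ _
      (@Function.Surjective.subsingleton _ _ _ (subsingleton_H_Hz J hF q) hGab.2)
      (ClosedMV.hofPush_bijective i' ((EtCoh.pull i').obj G) (q + 1)).2
  let φ := Ideal.quotientMap J' (algebraMap R (Hz J)) (Ideal.le_comap_map (f := algebraMap R (Hz J)) (I := J))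
  haveI : IsIso (CommRingCat.ofHom φ) :=
    (ConcreteCategory.isIso_iff_bijective _).2 (quotientMap_bijective J)
  let e := Spec.map (CommRingCat.ofHom φ)
  let e' := inv e
  have hw : e' ≫ i' ≫ p = Spec.map (CommRingCat.ofHom (Ideal.Quotient.mk J)) := by
    rw [IsIso.inv_comp_eq, ← Spec.map_comp, ← Spec.map_comp]
    rfl
  have h2 : Subsingleton (EtCoh.H _ ((EtCoh.pull (i' ≫ p)).obj F) (q + 1)) :=
    subsingleton_H_of_iso ((EtCore.pullComp i' p).app F).symm _ h1
  have h3 : Subsingleton (EtCoh.H _ ((EtCoh.pull e').obj ((EtCoh.pull (i' ≫ p)).obj F)) (q + 1)) :=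
    @Function.Surjective.subsingleton _ _ _ h2
      (InjCoh.Hpull_bijective_univHomeo e' ((EtCoh.pull (i' ≫ p)).obj F) (q + 1)).2
  exact subsingleton_H_of_iso (((EtCore.pullComp e' (i' ≫ p)).symm ≪≫ EtCore.pullCongr hw).app F) _ h3

end Hens

/-- Vanishing on closed subschemes of an affine scheme. -/
theorem subsingleton_H_closed {X Z : Scheme.{u}} [IsAffine X] (i : Z ⟶ X) [IsClosedImmersion i]
    {F : EtCoh.Ab X} (hF : EtAcyc F) (hT : EtCoh.IsTorsion F) (q : ℕ) :
    Subsingleton (EtCoh.H Z ((EtCoh.pull i).obj F) (q + 1)) := by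
  haveI : IsAffine Z := isAffine_of_isAffineHom i
  let R : Type u := Γ(X, ⊤)
  let a : R →+* Γ(Z, ⊤) := i.appTop.hom
  let J := RingHom.ker a
  let ψ := RingHom.quotientKerEquivOfSurjective (IsClosedImmersion.isAffine_surjective_of_isAffine i).2
  let b : Spec (CommRingCat.of R) ⟶ X := X.isoSpec.inv
  haveI : IsIso b := X.isoSpec.isIso_inv
  let m : Spec Γ(Z, ⊤) ⟶ Spec (CommRingCat.of (R ⧸ J)) := Spec.map ψ.toCommRingCatIso.hom
  let e : Z ⟶ Spec (CommRingCat.of (R ⧸ J)) := Z.isoSpec.hom ≫ m
  let k := Spec.map (CommRingCat.ofHom (Ideal.Quotient.mk J))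
  have hw : e ≫ k ≫ b = i := by
    have h1 : m ≫ k = Spec.map i.appTop := by
      rw [← Spec.map_comp]
      exact congrArg Spec.map (CommRingCat.hom_ext (RingHom.ext fun r =>
        RingHom.quotientKerEquivOfSurjective_apply_mk (IsClosedImmersion.isAffine_surjective_of_isAffine i).2 r))
    rw [Category.assoc, ← Category.assoc m, h1]
    show Z.isoSpec.hom ≫ Spec.map i.appTop ≫ X.isoSpec.inv = i
    rw [← Category.assoc, Scheme.isoSpec_hom_naturality, Category.assoc, Iso.hom_inv_id, Category.comp_id]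
  have h1 := subsingleton_H_mk J (hF.pull b) (Torsion.isTorsion_pull b hT) q
  have h2 : Subsingleton (EtCoh.H _ ((EtCoh.pull (k ≫ b)).obj F) (q + 1)) :=
    subsingleton_H_of_iso ((EtCore.pullComp k b).app F).symm _ h1
  have h3 : Subsingleton (EtCoh.H _ ((EtCoh.pull e).obj ((EtCoh.pull (k ≫ b)).obj F)) (q + 1)) :=
    @Function.Surjective.subsingleton _ _ _ h2
      (InjCoh.Hpull_bijective_univHomeo e ((EtCoh.pull (k ≫ b)).obj F) (q + 1)).2
  exact subsingleton_H_of_iso (((EtCore.pullComp e (k ≫ b)).symm ≪≫ EtCore.pullCongr hw).app F) _ h3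

end Groth.EtPbc.InjModule
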