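import Groth.Agent.EtSixCompare.Main
import Groth.Agent.EtaleBase.InjCoh
import Groth.Agent.EtaleBase.ExtAdj
import Groth.Agent.EtPbc.Torsion
import Mathlib.Algebra.Category.ModuleCat.Presheaf.Sheafification

/-!
# Injective sheaves of modules over a sheaf of rings on the small étale site

Their underlying abelian sheaves are acyclic on every étale scheme over the base.
-/

set_option autoImplicit false
set_option backward.isDefEq.respectTransparency.types false
set_option linter.style.haveILetI false

universe u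

open CategoryTheory CategoryTheory.Limits CategoryTheory.Abelian AlgebraicGeometry Opposite TensorProduct

noncomputable section

namespace Groth.EtPbc.InjModule

open Groth.EtaleBase Groth.EtSixCompare

attribute [local instance] InjCoh.jCont

variable {X : Scheme.{u}} {A : Sheaf X.smallEtaleTopology RingCat.{u + 1}}

/-- The presheaf `U ↦ A(U) ⊗ K(U)` of abelian groups. -/
def tens (A : Sheaf X.smallEtaleTopology RingCat.{u + 1}) (K : X.Etaleᵒᵖ ⥤ AddCommGrpCat.{u + 1}) :
    X.Etaleᵒᵖ ⥤ AddCommGrpCat.{u + 1} where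
  obj U := AddCommGrpCat.of ((A.obj.obj U : Type (u + 1)) ⊗[ℤ] (K.obj U : Type (u + 1)))
  map {U V} r := AddCommGrpCat.ofHom (TensorProduct.map (A.obj.map r).hom.toAddMonoidHom.toIntLinearMap
    (K.map r).hom.toIntLinearMap).toAddMonoidHom
  map_id U := by
    refine AddCommGrpCat.hom_ext (AddMonoidHom.toIntLinearMap_injective ?_)
    refine TensorProduct.ext' fun a b => ?_
    show A.obj.map (𝟙 U) a ⊗ₜ[ℤ] K.map (𝟙 U) b = _
    rw [A.obj.map_id, K.map_id]
    rfl
  map_comp {U V W} r s := by
    refine AddCommGrpCat.hom_ext (AddMonoidHom.toIntLinearMap_injective ?_)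
    refine TensorProduct.ext' fun a b => ?_
    show A.obj.map (r ≫ s) a ⊗ₜ[ℤ] K.map (r ≫ s) b = _
    rw [A.obj.map_comp, K.map_comp]
    rfl

instance tensModule (K : X.Etaleᵒᵖ ⥤ AddCommGrpCat.{u + 1}) (U : X.Etaleᵒᵖ) :
    Module (A.obj.obj U) ((tens A K).obj U) :=
  inferInstanceAs (Module (A.obj.obj U)
    ((A.obj.obj U : Type (u + 1)) ⊗[ℤ] (K.obj U : Type (u + 1))))

/-- The presheaf of modules `U ↦ A(U) ⊗ K(U)`. -/
def scal (K : X.Etaleᵒᵖ ⥤ AddCommGrpCat.{u + 1}) : PresheafOfModules.{u + 1} A.obj :=
  PresheafOfModules.ofPresheaf (tens A K) fun U V r c m => by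
    let φ := TensorProduct.map (A.obj.map r).hom.toAddMonoidHom.toIntLinearMap (K.map r).hom.toIntLinearMap
    refine m.induction_on ?_ (fun a b => ?_) (fun x y hx hy => ?_)
    · show φ (c • (0 : (A.obj.obj U : Type (u + 1)) ⊗[ℤ] (K.obj U : Type (u + 1)))) = A.obj.map r c • φ 0
      rw [smul_zero, map_zero, smul_zero]
    · show A.obj.map r (c * a) ⊗ₜ[ℤ] K.map r b = (A.obj.map r c * A.obj.map r a) ⊗ₜ[ℤ] K.map r b
      rw [map_mul]
    · show φ (c • (x + y)) = A.obj.map r c • φ (x + y)
      rw [smul_add, map_add, map_add, smul_add]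
      exact congrArg₂ (· + ·) hx hy

/-- Functoriality. -/
def scalMap {K K' : X.Etaleᵒᵖ ⥤ AddCommGrpCat.{u + 1}} (f : K ⟶ K') : scal (A := A) K ⟶ scal K' :=
  PresheafOfModules.homMk
    { app := fun U => AddCommGrpCat.ofHom ((f.app U).hom.toIntLinearMap.lTensor _).toAddMonoidHom
      naturality := fun U V r => by
        refine AddCommGrpCat.hom_ext (AddMonoidHom.toIntLinearMap_injective ?_)
        refine TensorProduct.ext' fun a b => ?_
        show A.obj.map r a ⊗ₜ[ℤ] f.app V (K.map r b) = A.obj.map r a ⊗ₜ[ℤ] K'.map r (f.app U b)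
        rw [NatTrans.naturality_apply f r b] }
    fun U c m => by
      let φ := (f.app U).hom.toIntLinearMap.lTensor (A.obj.obj U : Type (u + 1))
      refine m.induction_on ?_ (fun a b => ?_) (fun x y hx hy => ?_)
      · show φ (c • (0 : (A.obj.obj U : Type (u + 1)) ⊗[ℤ] (K.obj U : Type (u + 1)))) = c • φ 0
        rw [smul_zero, map_zero, smul_zero]
      · rfl
      · show φ (c • (x + y)) = c • φ (x + y)
        rw [smul_add, map_add, map_add, smul_add]
        exact congrArg₂ (· + ·) hx hy

/-- Maps into an injective sheaf of modules extend along inclusions with torsion-free quotient. -/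
theorem exists_extension (I : SheafOfModules.{u + 1} A) [Injective I] {K A' Q : EtCoh.Ab X}
    (i : K ⟶ A') (p : A' ⟶ Q) (w : i ≫ p = 0) (hS : (ShortComplex.mk i p w).ShortExact) (hQ : TF Q)
    (h : K ⟶ (SheafOfModules.toSheaf A).obj I) :
    ∃ g : A' ⟶ (SheafOfModules.toSheaf A).obj I, i ≫ g = h := by
  haveI := hS.mono_f
  let ev : ∀ U : X.Etaleᵒᵖ, (A.obj.obj U : Type (u + 1)) →ₗ[ℤ]
      (K.obj.obj U : Type (u + 1)) →ₗ[ℤ] (I.val.obj U : Type (u + 1)) := fun U =>
    AddMonoidHom.toIntLinearMap
      { toFun := fun a => AddMonoidHom.toIntLinearMap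
          ((DistribSMul.toAddMonoidHom (I.val.obj U : Type (u + 1)) a).comp (h.hom.app U).hom)
        map_zero' := LinearMap.ext fun b => zero_smul _ _
        map_add' := fun a a' => LinearMap.ext fun b => add_smul _ _ _ }
  let ψ : scal (A := A) K.obj ⟶ I.val :=
    PresheafOfModules.homMk
      { app := fun U => AddCommGrpCat.ofHom (TensorProduct.lift (ev U)).toAddMonoidHom
        naturality := fun U V r => by
          refine AddCommGrpCat.hom_ext (AddMonoidHom.toIntLinearMap_injective ?_)
          refine TensorProduct.ext' fun a b => ?_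
          show (A.obj.map r a) • (show I.val.obj V from h.hom.app V (K.obj.map r b)) =
            I.val.map r (a • (show I.val.obj U from h.hom.app U b))
          rw [PresheafOfModules.map_smul]
          exact congrArg (fun z : I.val.obj V => (A.obj.map r a) • z) (NatTrans.naturality_apply h.hom r b) }
      fun U c m => by
        let φ := TensorProduct.lift (ev U)
        refine m.induction_on ?_ (fun a b => ?_) (fun x y hx hy => ?_)
        · show φ (c • (0 : (A.obj.obj U : Type (u + 1)) ⊗[ℤ] (K.obj.obj U : Type (u + 1)))) = c • φ 0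
          rw [smul_zero, map_zero, smul_zero]
        · exact mul_smul c a (show I.val.obj U from h.hom.app U b)
        · show φ (c • (x + y)) = c • φ (x + y)
          rw [smul_add, map_add, map_add, smul_add]
          exact congrArg₂ (· + ·) hx hy
  haveI : Mono (scalMap (A := A) i.hom) := by
    haveI : ∀ U, Mono (((PresheafOfModules.toPresheaf A.obj).map (scalMap (A := A) i.hom)).app U) := fun U => by
      rw [AddCommGrpCat.mono_iff_injective]
      let F := sheafToPresheaf X.smallEtaleTopology AddCommGrpCat.{u + 1} ⋙ (evaluation _ _).obj U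
      haveI : Mono (F.map i) := inferInstance
      have hex := hS.exact.map_of_mono_of_preservesKernel F ‹_› inferInstance
      rw [ShortComplex.ab_exact_iff_function_exact] at hex
      let iU : (K.obj.obj U : Type (u + 1)) →ₗ[ℤ] A'.obj.obj U := (i.hom.app U).hom.toIntLinearMap
      let pU : (A'.obj.obj U : Type (u + 1)) →ₗ[ℤ] Q.obj.obj U := (p.hom.app U).hom.toIntLinearMap
      haveI : Module.IsTorsionFree ℤ (LinearMap.range pU) := .mk fun n hn a b e =>
        Subtype.ext (hQ U n hn.ne_zero (congrArg Subtype.val e))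
      have hinj : Function.Injective iU := (AddCommGrpCat.mono_iff_injective (F.map i)).1 inferInstance
      exact LinearMap.lTensor_injective_of_exact_of_flat pU.rangeRestrict pU.surjective_rangeRestrict
        iU hinj (fun y => (Iff.of_eq (Subtype.ext_iff.trans Iff.rfl).eq).trans (hex y)) _
    haveI : Mono ((PresheafOfModules.toPresheaf A.obj).map (scalMap (A := A) i.hom)) :=
      NatTrans.mono_of_mono_app _
    exact (PresheafOfModules.toPresheaf A.obj).mono_of_mono_map ‹_›
  let S := PresheafOfModules.sheafification.{u + 1} (𝟙 A.obj)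
  let adj := PresheafOfModules.sheafificationAdjunction.{u + 1} (𝟙 A.obj)
  haveI : Mono (S.map (scalMap (A := A) i.hom)) := inferInstance
  let ψ' : S.obj (scal K.obj) ⟶ I := (adj.homEquiv (scal K.obj) I).symm ψ
  let g' : S.obj (scal A'.obj) ⟶ I := Injective.factorThru ψ' (S.map (scalMap (A := A) i.hom))
  let τ : scal (A := A) A'.obj ⟶ I.val := adj.homEquiv (scal A'.obj) I g'
  have hτ : scalMap (A := A) i.hom ≫ τ = ψ :=
    (adj.homEquiv_naturality_left _ g').symm.trans
      ((congrArg (adj.homEquiv _ I) (Injective.comp_factorThru _ _)).trans (Equiv.apply_symm_apply _ _))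
  let g : A'.obj ⟶ I.val.presheaf :=
    { app := fun U =>
        let one : (A'.obj.obj U : Type (u + 1)) →+
            (A.obj.obj U : Type (u + 1)) ⊗[ℤ] (A'.obj.obj U : Type (u + 1)) :=
          (TensorProduct.mk ℤ (A.obj.obj U : Type (u + 1)) (A'.obj.obj U : Type (u + 1)) 1).toAddMonoidHom
        AddCommGrpCat.ofHom ((τ.app U).hom.toAddMonoidHom.comp one)
      naturality := fun U V r => by
        ext a
        refine Eq.trans ?_ (PresheafOfModules.naturality_apply τ r ((1 : A.obj.obj U) ⊗ₜ[ℤ] (a : A'.obj.obj U)))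
        show τ.app V ((1 : A.obj.obj V) ⊗ₜ[ℤ] A'.obj.map r a) =
          τ.app V (A.obj.map r 1 ⊗ₜ[ℤ] A'.obj.map r a)
        rw [map_one] }
  refine ⟨⟨g⟩, ?_⟩
  ext U a
  have := congr($(congrArg (fun t : scal (A := A) K.obj ⟶ I.val => t.app U) hτ) ((1 : A.obj.obj U) ⊗ₜ[ℤ] (a : K.obj.obj U)))
  refine Eq.trans ?_ (this.trans ?_)
  · rfl
  · exact one_smul _ _

variable (I : SheafOfModules.{u + 1} A) [Injective I]

/-- Injective sheaves of modules are acyclic for Ext out of torsion-free abelian sheaves. -/
theorem subsingleton_ext_of_tf {Q : EtCoh.Ab X} (hQ : TF Q) (n : ℕ) :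
    Subsingleton (Ext Q ((SheafOfModules.toSheaf A).obj I) (n + 1)) :=
  subsingleton_ext TF exists_cover (fun p hp => TF.of_mono (kernel.ι p) hp) _
    (fun i p w hS hP h => exists_extension I i p w hS hP h) n _ hQ

lemma mono_zsmul_of_tf {Q : EtCoh.Ab X} (hQ : TF Q) (n : ℤ) (hn : n ≠ 0) : Mono (n • 𝟙 Q) := by
  haveI : ∀ U, Mono (((sheafToPresheaf _ _).map (n • 𝟙 Q)).app U) := fun U => by
    rw [AddCommGrpCat.mono_iff_injective]
    exact hQ U n hn
  haveI : Mono ((sheafToPresheaf _ _).map (n • 𝟙 Q)) := NatTrans.mono_of_mono_app _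
  exact (sheafToPresheaf _ _).mono_of_mono_map ‹_›

lemma tf_of_mono_zsmul {Q : EtCoh.Ab X} (hQ : ∀ n : ℤ, n ≠ 0 → Mono (n • 𝟙 Q)) : TF Q := fun U n hn => by
  haveI := hQ n hn
  have h2 : Mono ((sheafToPresheaf _ _).map (n • 𝟙 Q)) := inferInstance
  have h3 := (NatTrans.mono_iff_mono_app _).1 h2 U
  rw [AddCommGrpCat.mono_iff_injective] at h3
  exact h3

variable {W : Scheme.{u}} (j : W ⟶ X) [AlgebraicGeometry.Etale j]

/-- Extension by zero along an étale morphism keeps being torsion free. -/
lemma tf_extZero {Q : EtCoh.Ab W} (hQ : TF Q) : TF ((EtShriek.extZero j).obj Q) := by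
  haveI := extZero_preservesFiniteLimits j
  haveI : (EtShriek.extZero j).Additive := Functor.additive_of_preserves_binary_products _
  refine tf_of_mono_zsmul fun n hn => ?_
  haveI := mono_zsmul_of_tf hQ n hn
  rw [← (EtShriek.extZero j).map_id, ← Functor.map_zsmul]
  infer_instance

/-- The underlying abelian sheaf of an injective sheaf of modules has no higher cohomology on étale
schemes over the base. -/
theorem subsingleton_H_etale (n : ℕ) :
    Subsingleton (EtCoh.H W ((EtCoh.pull j).obj ((SheafOfModules.toSheaf A).obj I)) (n + 1)) := by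
  haveI := extZero_preservesFiniteLimits j
  haveI : (EtShriek.extZero j).Additive := Functor.additive_of_preserves_binary_products _
  haveI : PreservesFiniteColimits (EtShriek.extZero j) :=
    have : PreservesColimitsOfSize.{0, 0} (EtShriek.extZero j) :=
      (EtShriek.extZeroAdj j).leftAdjoint_preservesColimits
    PreservesColimitsOfSize.preservesFiniteColimits _
  let adj : EtShriek.extZero j ⊣ EtCoh.pull j :=
    (EtShriek.extZeroAdj j).ofNatIsoRight (pullRestrIso j).symm
  have hb := ExtAdj.adjExt_bijective_of_exact adj (EtCoh.const W ℤ) ((SheafOfModules.toSheaf A).obj I) (n + 1)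
  have hs := subsingleton_ext_of_tf I (tf_extZero j (tf_int (X := W))) n
  exact @Function.Injective.subsingleton _ _ _ hb.1 hs

/-- Sheaves of modules over a torsion sheaf of rings are torsion. -/
theorem isTorsion_toSheaf (hA : ∀ (U : X.Etale) (s : A.val.obj (op U)) (x : U.left), ∃ (V : X.Etale)
    (g : V ⟶ U), (∃ v : V.left, g.left.base v = x) ∧ IsOfFinAddOrder (A.val.map g.op s))
    (M : SheafOfModules.{u + 1} A) : EtCoh.IsTorsion ((SheafOfModules.toSheaf A).obj M) := by
  intro U s x
  obtain ⟨V, g, hv, ho⟩ := hA U 1 x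
  refine ⟨V, g, hv, ?_⟩
  obtain ⟨m, hm, h1⟩ := ho.exists_nsmul_eq_zero
  refine isOfFinAddOrder_iff_nsmul_eq_zero.2 ⟨m, hm, ?_⟩
  show m • (show M.val.obj (op V) from M.val.map g.op s) = 0
  have e : (m • (1 : A.val.obj (op V))) = 0 := by rw [← map_one (A.val.map g.op).hom]; exact h1
  rw [← one_smul (A.val.obj (op V)) (show M.val.obj (op V) from M.val.map g.op s), ← smul_assoc]
  exact (congrArg (fun z : A.val.obj (op V) => z • (show M.val.obj (op V) from M.val.map g.op s)) e).trans
    (zero_smul _ _)

end Groth.EtPbc.InjModule
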