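import Groth.Agent.EtPbc.InjModule.Affine
import Groth.Agent.EtaleBase.MayerVietoris
import Mathlib.AlgebraicGeometry.Restrict

/-!
# Vanishing above the number of opens of a covering
-/

set_option autoImplicit false
set_option backward.isDefEq.respectTransparency.types false
set_option linter.style.haveILetI false

universe u

open CategoryTheory CategoryTheory.Limits CategoryTheory.Abelian AlgebraicGeometry Opposite

noncomputable section

namespace Groth.EtPbc.InjModule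

open Groth.EtaleBase

attribute [local instance] pull_preservesFiniteLimits

variable {Z : Scheme.{u}} (G : EtCoh.Ab Z)

/-- No cohomology in degrees above `d` on an open. -/
def VanishAbove (d : ℕ) (O : Z.Opens) : Prop :=
  ∀ q, d < q → Subsingleton (EtCoh.H ↑O ((EtCoh.pull O.ι).obj G) q)

variable {G}

/-- The Mayer–Vietoris step. -/
theorem vanishAbove_sup {O₁ O₂ : Z.Opens} {d : ℕ} (h₁ : VanishAbove G (d + 1) O₁)
    (h₂ : VanishAbove G (d + 1) O₂) (h₁₂ : VanishAbove G d (O₁ ⊓ O₂)) :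
    VanishAbove G (d + 1) (O₁ ⊔ O₂) := by
  intro q hq
  obtain ⟨q, rfl⟩ := Nat.exists_eq_succ_of_ne_zero (by omega : q ≠ 0)
  let F := (EtCoh.pull (O₁ ⊔ O₂).ι).obj G
  have tr : ∀ (O : Z.Opens) (h : O ≤ O₁ ⊔ O₂) (n : ℕ), Subsingleton (EtCoh.H ↑O ((EtCoh.pull O.ι).obj G) n) →
      Subsingleton (EtCoh.H ↑O ((EtCoh.pull (Z.homOfLE h)).obj F) n) := fun O h n hn =>
    subsingleton_H_of_iso (((EtCore.pullComp (Z.homOfLE h) (O₁ ⊔ O₂).ι).symm ≪≫
      EtCore.pullCongr (Z.homOfLE_ι h)).app G).symm n hn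
  have hr : ∀ (O : Z.Opens) (h : O ≤ O₁ ⊔ O₂) (x : ↥(O₁ ⊔ O₂)),
      x ∈ Set.range (Z.homOfLE h).base ↔ x.1 ∈ O := fun O h x => by
    constructor
    · rintro ⟨y, rfl⟩
      rw [Scheme.homOfLE_apply]
      exact y.2
    · intro hx
      exact ⟨⟨x.1, hx⟩, Subtype.ext (Scheme.homOfLE_apply ..)⟩
  obtain ⟨δ, -, hδ, -, -⟩ := MV.exists_seq (Z.homOfLE (le_sup_left : O₁ ≤ O₁ ⊔ O₂)) F
    (Z.homOfLE (inf_le_left : O₁ ⊓ O₂ ≤ O₁)) (Z.homOfLE (inf_le_left.trans le_sup_left))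
    (Z.homOfLE_homOfLE _ _)
    (Z.homOfLE (le_sup_right : O₂ ≤ O₁ ⊔ O₂)) (Z.homOfLE (inf_le_right : O₁ ⊓ O₂ ≤ O₂))
    (Z.homOfLE_homOfLE _ _)
    (fun x => (TopologicalSpace.Opens.mem_sup.1 x.2).imp (hr _ le_sup_left x).2 (hr _ le_sup_right x).2)
    (Set.ext fun x => (hr _ (inf_le_left.trans le_sup_left) x).trans (TopologicalSpace.Opens.mem_inf.trans
      (and_congr (hr _ le_sup_left x).symm (hr _ le_sup_right x).symm)))
  haveI hj := tr O₁ le_sup_left _ (h₁ (q + 1) hq)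
  haveI hl := tr O₂ le_sup_right _ (h₂ (q + 1) hq)
  haveI hk := tr (O₁ ⊓ O₂) (inf_le_left.trans le_sup_left) _ (h₁₂ q (by omega))
  refine subsingleton_of_forall_eq 0 fun x => ?_
  have hx : x ∈ (δ q).range := by
    rw [← hδ q]
    exact @Subsingleton.elim _ (inferInstance : Subsingleton (EtCoh.H ↑O₁ _ (q + 1) × EtCoh.H ↑O₂ _ (q + 1))) _ _
  obtain ⟨y, rfl⟩ := hx
  rw [Subsingleton.elim y 0, map_zero]

/-- Vanishing above `m` on a union of `m + 1` members of a class closed under intersections. -/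
theorem vanishAbove_iSup {P : Z.Opens → Prop} (hP : ∀ O O', P O → P O' → P (O ⊓ O'))
    (hv : ∀ O, P O → VanishAbove G 0 O) :
    ∀ (m : ℕ) (W : Fin (m + 1) → Z.Opens), (∀ k, P (W k)) → VanishAbove G m (⨆ k, W k) := by
  intro m
  induction m with
  | zero =>
    intro W hW
    have e : ⨆ k, W k = W 0 := le_antisymm (iSup_le fun k => by rw [Fin.fin_one_eq_zero k]) (le_iSup W 0)
    rw [e]
    exact hv _ (hW 0)
  | succ m ih =>
    intro W hW
    have e : ⨆ k, W k = W 0 ⊔ ⨆ k : Fin (m + 1), W k.succ := le_antisymm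
      (iSup_le fun k => by
        rcases Fin.eq_zero_or_eq_succ k with rfl | ⟨k, rfl⟩
        · exact le_sup_left
        · exact le_sup_of_le_right (le_iSup (fun k => W k.succ) k))
      (sup_le (le_iSup W 0) (iSup_le fun k => le_iSup W k.succ))
    rw [e]
    refine vanishAbove_sup (fun q hq => hv _ (hW 0) q (by omega))
      (fun q hq => ih _ (fun k => hW k.succ) q (by omega)) ?_
    rw [inf_iSup_eq]
    exact ih _ fun k => hP _ _ (hW 0) (hW k.succ)

/-- Vanishing on a closed subscheme of a scheme with affine diagonal covered by `n + 1` affines. -/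
theorem subsingleton_H_covered {X : Scheme.{u}} (n : ℕ)
    (hΔ : ∀ U V : X.Opens, IsAffineOpen U → IsAffineOpen V → IsAffineOpen (U ⊓ V))
    (W : Fin (n + 1) → X.Opens) (hW : ∀ k, IsAffineOpen (W k)) (hcov : ⨆ k, W k = ⊤)
    (i : Z ⟶ X) [IsClosedImmersion i] {F : EtCoh.Ab X} (hF : EtAcyc F) (hT : EtCoh.IsTorsion F)
    (q : ℕ) (hq : n < q) : Subsingleton (EtCoh.H Z ((EtCoh.pull i).obj F) q) := by
  let G := (EtCoh.pull i).obj F
  have hv : ∀ O : Z.Opens, (∃ V : X.Opens, IsAffineOpen V ∧ i ⁻¹ᵁ V = O) → VanishAbove G 0 O := by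
    rintro O ⟨V, hV, rfl⟩ q hq
    obtain ⟨q, rfl⟩ := Nat.exists_eq_succ_of_ne_zero (by omega : q ≠ 0)
    haveI : IsAffine ↑V := hV
    haveI : IsClosedImmersion (i ∣_ V) := IsZariskiLocalAtTarget.restrict (P := @IsClosedImmersion) inferInstance V
    have h1 := subsingleton_H_closed (i ∣_ V) (hF.pull V.ι) (Torsion.isTorsion_pull V.ι hT) q
    exact subsingleton_H_of_iso
      (((EtCore.pullComp (i ∣_ V) V.ι).symm ≪≫ EtCore.pullCongr (morphismRestrict_ι i V) ≪≫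
        EtCore.pullComp (i ⁻¹ᵁ V).ι i).app F) _ h1
  have h := vanishAbove_iSup (G := G)
    (P := fun O : Z.Opens => ∃ V : X.Opens, IsAffineOpen V ∧ i ⁻¹ᵁ V = O)
    (by
      rintro _ _ ⟨V, hV, rfl⟩ ⟨V', hV', rfl⟩
      exact ⟨V ⊓ V', hΔ V V' hV hV', rfl⟩)
    hv n (fun k => i ⁻¹ᵁ W k) (fun k => ⟨W k, hW k, rfl⟩) q hq
  rw [← Scheme.Hom.preimage_iSup, hcov, Scheme.Hom.preimage_top] at h
  haveI : IsIso (⊤ : Z.Opens).ι := inferInstanceAs (IsIso Z.topIso.hom)
  exact @Function.Injective.subsingleton _ _ _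
    (InjCoh.Hpull_bijective_univHomeo (⊤ : Z.Opens).ι G q).1 h

end Groth.EtPbc.InjModule
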